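import Mathlib

/-!
Abelian permutation groups: the order is at most the product of the orbit sizes, and that product is bounded by
the largest product of a partition of the degree.
-/

set_option autoImplicit false

namespace Cfsg.Agent.Lib.AbelianPerm

/-- The largest product of a multiset of naturals with given sum. -/
def maxProd : ℕ → ℕ
  | 0 => 1
  | 1 => 1
  | 2 => 2
  | 3 => 3
  | 4 => 4
  | n + 5 => 3 * maxProd (n + 2)

/-- The largest product of a multiset of naturals with given sum, avoiding the part `2`. -/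
def maxProd' : ℕ → ℕ
  | 0 => 1
  | 1 => 1
  | 2 => 1
  | 3 => 3
  | 4 => 4
  | 5 => 5
  | 6 => 9
  | 7 => 12
  | 8 => 16
  | n + 9 => 3 * maxProd' (n + 6)

theorem maxProd_mul_le : ∀ a b : ℕ, maxProd a * maxProd b ≤ maxProd (a + b) := by
  intro a
  induction a using Nat.strong_induction_on with
  | _ a ih =>
    intro b
    rcases lt_or_ge a 5 with ha | ha
    · induction b using Nat.strong_induction_on with
      | _ b ihb =>
        rcases lt_or_ge b 5 with hb | hb
        · interval_cases a <;> interval_cases b <;> decide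
        · obtain ⟨c, rfl⟩ := Nat.exists_eq_add_of_le' hb
          have := ihb (c + 2) (by omega)
          rw [show a + (c + 5) = (a + c) + 5 by omega, maxProd, maxProd, show (a + c) + 2 = a + (c + 2) by omega]
          linarith [this]
    · obtain ⟨c, rfl⟩ := Nat.exists_eq_add_of_le' ha
      have := ih (c + 2) (by omega) b
      rw [show c + 5 + b = (c + b) + 5 by omega, maxProd, maxProd, show (c + b) + 2 = (c + 2) + b by omega]
      linarith [this]

theorem le_maxProd : ∀ a : ℕ, a ≤ maxProd a
  | 0 => by decide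
  | 1 => by decide
  | 2 => by decide
  | 3 => by decide
  | 4 => by decide
  | n + 5 => by
    have := le_maxProd (n + 2)
    rw [maxProd]
    omega

theorem maxProd'_mul_le : ∀ a b : ℕ, maxProd' a * maxProd' b ≤ maxProd' (a + b) := by
  intro a
  induction a using Nat.strong_induction_on with
  | _ a ih =>
    intro b
    rcases lt_or_ge a 9 with ha | ha
    · induction b using Nat.strong_induction_on with
      | _ b ihb =>
        rcases lt_or_ge b 9 with hb | hb
        · interval_cases a <;> interval_cases b <;> decide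
        · obtain ⟨c, rfl⟩ := Nat.exists_eq_add_of_le' hb
          have := ihb (c + 6) (by omega)
          rw [show a + (c + 9) = (a + c) + 9 by omega, maxProd', maxProd', show (a + c) + 6 = a + (c + 6) by omega]
          linarith [this]
    · obtain ⟨c, rfl⟩ := Nat.exists_eq_add_of_le' ha
      have := ih (c + 6) (by omega) b
      rw [show c + 9 + b = (c + b) + 9 by omega, maxProd', maxProd', show (c + b) + 6 = (c + 6) + b by omega]
      linarith [this]

theorem le_maxProd' : ∀ a : ℕ, a ≠ 2 → a ≤ maxProd' a
  | 0, _ => by decide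
  | 1, _ => by decide
  | 2, h => absurd rfl h
  | 3, _ => by decide
  | 4, _ => by decide
  | 5, _ => by decide
  | 6, _ => by decide
  | 7, _ => by decide
  | 8, _ => by decide
  | n + 9, _ => by
    have := le_maxProd' (n + 6) (by omega)
    rw [maxProd']
    omega

theorem maxProd_mono_step (k : ℕ) :
    maxProd (3 * k + 3) = 3 ^ (k + 1) ∧ maxProd (3 * k + 4) = 4 * 3 ^ k ∧ maxProd (3 * k + 2) = 2 * 3 ^ k := by
  induction k with
  | zero => exact ⟨rfl, rfl, rfl⟩
  | succ k ih =>
    obtain ⟨h0, h1, h2⟩ := ih
    refine ⟨?_, ?_, ?_⟩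
    · rw [show 3 * (k + 1) + 3 = (3 * k + 1) + 5 by omega, maxProd, show 3 * k + 1 + 2 = 3 * k + 3 by omega, h0]; ring
    · rw [show 3 * (k + 1) + 4 = (3 * k + 2) + 5 by omega, maxProd, show 3 * k + 2 + 2 = 3 * k + 4 by omega, h1]; ring
    · rw [show 3 * (k + 1) + 2 = (3 * k) + 5 by omega, maxProd, h2]; ring

theorem maxProd'_three_mul_add_eight (k : ℕ) : maxProd' (3 * k + 8) = 16 * 3 ^ k := by
  induction k with
  | zero => rfl
  | succ k ih =>
    rw [show 3 * (k + 1) + 8 = (3 * k + 2) + 9 by omega, maxProd', show 3 * k + 2 + 6 = 3 * k + 8 by omega, ih]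
    ring

theorem prod_le_maxProd {ι : Type*} (s : Finset ι) (d : ι → ℕ) : ∏ i ∈ s, d i ≤ maxProd (∑ i ∈ s, d i) := by
  classical
  induction s using Finset.induction with
  | empty => simp [maxProd]
  | insert i s hi ih =>
    rw [Finset.prod_insert hi, Finset.sum_insert hi]
    exact (Nat.mul_le_mul (le_maxProd _) ih).trans (maxProd_mul_le _ _)

theorem prod_le_maxProd' {ι : Type*} (s : Finset ι) (d : ι → ℕ) (h : ∀ i ∈ s, d i ≠ 2) :
    ∏ i ∈ s, d i ≤ maxProd' (∑ i ∈ s, d i) := by
  classical
  induction s using Finset.induction with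
  | empty => simp [maxProd']
  | insert i s hi ih =>
    rw [Finset.prod_insert hi, Finset.sum_insert hi]
    exact (Nat.mul_le_mul (le_maxProd' _ (h i (Finset.mem_insert_self i s)))
      (ih fun j hj => h j (Finset.mem_insert_of_mem hj))).trans (maxProd'_mul_le _ _)

variable {α : Type*} [Fintype α]

/-- If the pointwise stabiliser of a set of orbits is trivial, the product of their sizes bounds the order. -/
theorem card_le_prod (A : Subgroup (Equiv.Perm α)) [IsMulCommutative A]
    (T : Finset (Quotient (MulAction.orbitRel A α)))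
    (hT : ∀ c : A, (∀ y : α, (⟦y⟧ : Quotient (MulAction.orbitRel A α)) ∈ T → c • y = y) → c = 1) :
    Nat.card A ≤ ∏ ω ∈ T, Nat.card (MulAction.orbit A ω.out) := by
  classical
  rw [← Finset.prod_coe_sort, ← Nat.card_pi]
  refine Nat.card_le_card_of_injective (fun a ω => ⟨a • ω.1.out, MulAction.mem_orbit _ _⟩) fun a b hab => ?_
  have hc := hT (b⁻¹ * a) fun y hy => by
    obtain ⟨d, hd⟩ : y ∈ MulAction.orbit A (⟦y⟧ : Quotient (MulAction.orbitRel A α)).out := by
      rw [MulAction.mem_orbit_symm]
      exact MulAction.orbitRel_apply.mp (Quotient.mk_out (s := MulAction.orbitRel A α) y)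
    have hx : (b⁻¹ * a) • (⟦y⟧ : Quotient (MulAction.orbitRel A α)).out = (⟦y⟧ : Quotient (MulAction.orbitRel A α)).out := by
      rw [mul_smul, inv_smul_eq_iff]
      exact congrArg Subtype.val (congrFun hab ⟨_, hy⟩)
    simp only at hd
    rw [← hd, ← mul_smul, IsMulCommutative.is_comm.comm (b⁻¹ * a) d, mul_smul, hx]
  exact (inv_mul_eq_one.mp hc).symm

theorem sum_card_orbit (A : Subgroup (Equiv.Perm α)) [Fintype (Quotient (MulAction.orbitRel A α))] :
    ∑ ω : Quotient (MulAction.orbitRel A α), Nat.card (MulAction.orbit A ω.out) = Fintype.card α := by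
  classical
  rw [← Nat.card_eq_fintype_card, Nat.card_congr (MulAction.selfEquivSigmaOrbits A α), Nat.card_sigma]

theorem card_le_maxProd (A : Subgroup (Equiv.Perm α)) [IsMulCommutative A] :
    Nat.card A ≤ maxProd (Fintype.card α) := by
  classical
  rw [← sum_card_orbit A]
  refine (card_le_prod A Finset.univ fun c hc => ?_).trans (prod_le_maxProd _ _)
  exact Subtype.ext (Equiv.ext fun y => hc y (Finset.mem_univ _))

theorem card_le_of_even [DecidableEq α] (A : Subgroup (Equiv.Perm α)) [IsMulCommutative A] (hA : A ≤ alternatingGroup α) :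
    Nat.card A ≤ max (maxProd' (Fintype.card α)) (maxProd (Fintype.card α - 2)) := by
  classical
  by_cases h : ∃ ω : Quotient (MulAction.orbitRel A α), Nat.card (MulAction.orbit A ω.out) = 2
  · obtain ⟨ω₀, hω₀⟩ := h
    refine le_max_of_le_right ?_
    have hsum : ∑ ω ∈ Finset.univ.erase ω₀, Nat.card (MulAction.orbit A ω.out) = Fintype.card α - 2 := by
      have := Finset.add_sum_erase Finset.univ (fun ω => Nat.card (MulAction.orbit A ω.out)) (Finset.mem_univ ω₀)
      rw [sum_card_orbit A] at this
      simp only [hω₀] at this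
      omega
    rw [← hsum]
    refine (card_le_prod A (Finset.univ.erase ω₀) fun c hc => ?_).trans (prod_le_maxProd _ _)
    by_contra hne
    have hsupp : ((c : Equiv.Perm α).support : Set α) ⊆ MulAction.orbit A ω₀.out := by
      intro y hy
      by_contra hy'
      refine Equiv.Perm.mem_support.mp hy (hc y (Finset.mem_erase.mpr ⟨fun he => hy' ?_, Finset.mem_univ _⟩))
      rw [← he, MulAction.mem_orbit_symm]
      exact MulAction.orbitRel_apply.mp (Quotient.mk_out (s := MulAction.orbitRel A α) y)
    have hle : (c : Equiv.Perm α).support.card ≤ 2 := by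
      rw [← hω₀, ← Nat.card_eq_finsetCard]
      exact Nat.card_le_card_of_injective (Set.inclusion hsupp) (Set.inclusion_injective hsupp)
    have h2 : (c : Equiv.Perm α).support.card = 2 :=
      le_antisymm hle (Equiv.Perm.two_le_card_support_of_ne_one fun e => hne (Subtype.ext e))
    have hs := Equiv.Perm.mem_alternatingGroup.mp (hA c.2)
    rw [(Equiv.Perm.card_support_eq_two.mp h2).sign_eq] at hs
    exact absurd hs (by decide)
  · push Not at h
    refine le_max_of_le_left ?_
    rw [← sum_card_orbit A]
    refine (card_le_prod A Finset.univ fun c hc => ?_).trans (prod_le_maxProd' _ _ fun ω _ => h ω)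
    exact Subtype.ext (Equiv.ext fun y => hc y (Finset.mem_univ _))

/-- The regular permutations on a family of copies. -/
noncomputable def sigmaHom {ι : Type*} (G : ι → Type*) [∀ i, AddCommGroup (G i)] :
    Multiplicative (∀ i, G i) →* Equiv.Perm (Σ i, G i) :=
  MonoidHom.mk' (fun a => Equiv.sigmaCongrRight fun i => Equiv.addLeft (Multiplicative.toAdd a i)) fun a b => by
    refine Equiv.ext fun ⟨i, x⟩ => ?_
    show (⟨i, (Multiplicative.toAdd a i + Multiplicative.toAdd b i) + x⟩ : Σ i, G i) =
      ⟨i, Multiplicative.toAdd a i + (Multiplicative.toAdd b i + x)⟩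
    exact congrArg (Sigma.mk i) (add_assoc _ _ _)

theorem sigmaHom_apply {ι : Type*} (G : ι → Type*) [∀ i, AddCommGroup (G i)] (a : Multiplicative (∀ i, G i)) (i : ι) (x : G i) :
    sigmaHom G a ⟨i, x⟩ = ⟨i, Multiplicative.toAdd a i + x⟩ := rfl

/-- Abelian subgroup of given order with block decomposition. -/
theorem exists_abelian {ι : Type*} [Fintype ι] (G : ι → Type*) [∀ i, AddCommGroup (G i)] [∀ i, Fintype (G i)]
    [DecidableEq α] (hn : Fintype.card α = ∑ i, Fintype.card (G i)) :
    ∃ A : Subgroup (Equiv.Perm α), IsMulCommutative A ∧ Nat.card A = ∏ i, Fintype.card (G i) ∧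
      ((∀ i (v : G i), ∃ π : Equiv.Perm (G i), π * π = Equiv.addLeft v) → A ≤ alternatingGroup α) := by
  classical
  obtain ⟨e⟩ : Nonempty ((Σ i, G i) ≃ α) := ⟨Fintype.equivOfCardEq (by rw [Fintype.card_sigma, hn])⟩
  let φ : Multiplicative (∀ i, G i) →* Equiv.Perm α := e.permCongrHom.toMonoidHom.comp (sigmaHom G)
  have hinj : Function.Injective φ := fun a b h => by
    have h' := e.permCongrHom.injective h
    refine Multiplicative.toAdd.injective (funext fun i => ?_)
    have := congrArg (fun π : Equiv.Perm (Σ i, G i) => π ⟨i, 0⟩) h'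
    simpa [sigmaHom_apply] using this
  refine ⟨φ.range, inferInstance, ?_, fun hsq => ?_⟩
  · rw [← Nat.card_congr (MonoidHom.ofInjective hinj).toEquiv, Nat.card_eq_fintype_card, Fintype.card_multiplicative,
      Fintype.card_pi]
  · rintro _ ⟨a, rfl⟩
    rw [Equiv.Perm.mem_alternatingGroup]
    choose π hπ using fun i => hsq i (Multiplicative.toAdd a i)
    have : φ a = e.permCongrHom (Equiv.sigmaCongrRight π) * e.permCongrHom (Equiv.sigmaCongrRight π) := by
      rw [← map_mul]
      show e.permCongrHom (sigmaHom G a) = _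
      congr 1
      refine Equiv.ext fun ⟨i, x⟩ => ?_
      show (⟨i, Multiplicative.toAdd a i + x⟩ : Σ i, G i) = ⟨i, (π i * π i) x⟩
      rw [hπ]
      rfl
    rw [this, map_mul]
    exact Int.units_mul_self _

end Cfsg.Agent.Lib.AbelianPerm
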